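import Groth.Agent.CI16.Height
import Groth.Agent.An92.Lef.HypIdeal
import Groth.Agent.Var76.RegBasic

/-! A regular sequence of forms on the coordinate charts of projective space. -/

set_option autoImplicit false

universe u

open CategoryTheory CategoryTheory.Limits AlgebraicGeometry Opposite TopologicalSpace MvPolynomial

noncomputable section

set_option backward.isDefEq.respectTransparency false

namespace Groth.Agent.CI16

open Var76 Var76.Reg

variable {k : Type u} [Field k] {n r : ℕ}

/-- Homogeneous components of a multiple of a homogeneous polynomial. -/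
theorem homogeneousComponent_mul_form {e d : ℕ} {c F : MvPolynomial (Fin (n + 1)) k} (hF : F.IsHomogeneous e)
    (h : e ≤ d) : homogeneousComponent d (c * F) = homogeneousComponent (d - e) c * F := by
  have hterm : ∀ i, homogeneousComponent d (homogeneousComponent i c * F) =
      if i = d - e then homogeneousComponent i c * F else 0 := by
    intro i
    rw [homogeneousComponent_of_mem ((homogeneousComponent_isHomogeneous i c).mul hF)]
    by_cases hi : i = d - e
    · rw [if_pos hi, if_pos (by omega)]
    · rw [if_neg hi, if_neg (by omega)]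
  conv_lhs => rw [← sum_homogeneousComponent c, Finset.sum_mul, map_sum]
  simp only [hterm, Finset.sum_ite_eq', Finset.mem_range]
  split
  · rfl
  · rename_i hd
    rw [homogeneousComponent_eq_zero _ c (by omega), zero_mul]

/-- The dehomogenisation, on a coordinate open. -/
abbrev dhl {d : ℕ} (F : LefPen.Form n k d) (l : Fin (n + 1)) : Γ(CohB1.ProjSpace n k, xOpen n k l) :=
  LefPen.dehom F l

/-- A homogeneous element of the ideal of forms, with homogeneous coefficients. -/
theorem exists_coeff {a : Fin r → ℕ} (G : ∀ j, LefPen.Form n k (a j)) {D : ℕ} (hD : ∀ j, a j ≤ D)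
    {f : MvPolynomial (Fin (n + 1)) k} (hf : f.IsHomogeneous D) (hmem : f ∈ spanAll G) :
    ∃ c : ∀ j : Fin r, CohB1.polyGrading n k (D - a j), f = ∑ j, (c j).1 * (G j).1 := by
  obtain ⟨c, hc⟩ := Ideal.mem_span_range_iff_exists_fun.1 hmem
  refine ⟨fun j => ⟨homogeneousComponent (D - a j) (c j), homogeneousComponent_mem _ _⟩, ?_⟩
  calc f = homogeneousComponent D f := (homogeneousComponent_eq_self hf).symm
    _ = ∑ j, homogeneousComponent (D - a j) (c j) * (G j).1 := by
      rw [← hc, map_sum]
      exact Finset.sum_congr rfl fun j _ => homogeneousComponent_mul_form ((mem_homogeneousSubmodule _ _).1 (G j).2) (hD j)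

theorem ideal_ciIdeal_chart {a : Fin r → ℕ} (G : ∀ j, LefPen.Form n k (a j)) (l : Fin (n + 1)) :
    (LefPen.ciIdeal G).ideal ⟨xOpen n k l, isAffineOpen_xOpen n k l⟩ =
      Ideal.span (Set.range fun j => dhl (G j) l) := by
  rw [LefPen.ciIdeal, Scheme.IdealSheafData.ideal_iSup, iSup_apply]
  rw [← Set.iUnion_singleton_eq_range (fun j => dhl (G j) l), Ideal.span, Submodule.span_iUnion]
  exact iSup_congr fun j => An92.Lef.hypIdeal_chart (G j) l

/-- The dehomogenised last form is a non zero-divisor modulo the others. -/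
theorem mem_of_mul_dehom_mem {a : Fin (r + 1) → ℕ} {G : ∀ j, LefPen.Form n k (a j)} (hG : CIReg G)
    (l : Fin (n + 1)) (x : Γ(CohB1.ProjSpace n k, xOpen n k l))
    (hx : x * dhl (G (Fin.last r)) l ∈
      (LefPen.ciIdeal fun j : Fin r => G j.castSucc).ideal ⟨xOpen n k l, isAffineOpen_xOpen n k l⟩) :
    x ∈ (LefPen.ciIdeal fun j : Fin r => G j.castSucc).ideal ⟨xOpen n k l, isAffineOpen_xOpen n k l⟩ := by
  classical
  let 𝒜 := CohB1.polyGrading n k
  let f : MvPolynomial (Fin (n + 1)) k := X l
  let H : ∀ j : Fin r, LefPen.Form n k (a j.castSucc) := fun j => G j.castSucc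
  have hf : f ∈ 𝒜 1 := LefPen.X_mem n k l
  let A := HomogeneousLocalization.Away 𝒜 f
  let φ : A →+* Γ(CohB1.ProjSpace n k, xOpen n k l) := (Proj.awayToSection 𝒜 f).hom
  have hbij : Function.Bijective φ :=
    ConcreteCategory.bijective_of_isIso (Proj.basicOpenIsoAway 𝒜 f (LefPen.X_mem n k l) one_pos).hom
  let dh : ∀ {d : ℕ}, LefPen.Form n k d → A := fun {d} F =>
    HomogeneousLocalization.Away.mk 𝒜 hf d F.1 (by rw [smul_eq_mul, mul_one]; exact F.2)
  have hspan : (LefPen.ciIdeal H).ideal ⟨xOpen n k l, isAffineOpen_xOpen n k l⟩ =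
      (Ideal.span (Set.range fun j => dh (H j))).map φ := by
    rw [ideal_ciIdeal_chart, Ideal.map_span, ← Set.range_comp]
    rfl
  rw [hspan] at hx ⊢
  obtain ⟨y, rfl⟩ := hbij.2 x
  have hmem : ∀ z : A, φ z ∈ (Ideal.span (Set.range fun j => dh (H j))).map φ ↔
      z ∈ Ideal.span (Set.range fun j => dh (H j)) := fun z =>
    (Ideal.mem_map_iff_of_surjective φ hbij.2).trans
      ⟨fun ⟨z', hz', e⟩ => hbij.1 e ▸ hz', fun hz => ⟨z, hz, rfl⟩⟩
  rw [hmem]
  have hy : y * dh (G (Fin.last r)) ∈ Ideal.span (Set.range fun j => dh (H j)) := by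
    rw [← hmem, map_mul]
    exact hx
  obtain ⟨m, p, hp, rfl⟩ := HomogeneousLocalization.Away.mk_surjective 𝒜 hf y
  rw [smul_eq_mul, mul_one] at hp
  let L := Localization.Away f
  let I : Ideal (MvPolynomial (Fin (n + 1)) k) := spanAll H
  have h1 : (HomogeneousLocalization.Away.mk 𝒜 hf m p (by rw [smul_eq_mul, mul_one]; exact hp)).val *
      (dh (G (Fin.last r))).val ∈ I.map (algebraMap _ L) := by
    rw [← HomogeneousLocalization.val_mul, ← HomogeneousLocalization.algebraMap_apply]
    have hle : (Ideal.span (Set.range fun j => dh (H j))).map (algebraMap A L) ≤ I.map (algebraMap _ L) := by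
      rw [Ideal.map_span, Ideal.span_le]
      rintro _ ⟨_, ⟨j, rfl⟩, rfl⟩
      change (dh (H j)).val ∈ _
      rw [HomogeneousLocalization.Away.val_mk, Localization.mk_eq_mk', IsLocalization.mk'_eq_mul_mk'_one]
      exact Ideal.mul_mem_right _ _ (Ideal.mem_map_of_mem _ (Ideal.subset_span ⟨j, rfl⟩))
    exact hle (Ideal.mem_map_of_mem (algebraMap A L) hy)
  rw [HomogeneousLocalization.Away.val_mk, HomogeneousLocalization.Away.val_mk, Localization.mk_mul,
    Localization.mk_eq_mk', IsLocalization.mk'_mem_iff,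
    IsLocalization.algebraMap_mem_map_algebraMap_iff (Submonoid.powers f)] at h1
  obtain ⟨_, ⟨N, rfl⟩, hN⟩ := h1
  rw [← mul_assoc] at hN
  have hN' : f ^ N * p ∈ I := hG.last _ hN
  let B := ∑ j : Fin r, a j.castSucc
  let D := B + N + m
  have hq : (f ^ (B + N) * p).IsHomogeneous D := by
    have h := ((isHomogeneous_X k l).pow (B + N)).mul ((mem_homogeneousSubmodule _ _).1 hp)
    rwa [show 1 * (B + N) + m = D by omega] at h
  obtain ⟨c, hc⟩ := exists_coeff H (D := D)
    (fun j => (Finset.single_le_sum (f := fun j : Fin r => a j.castSucc) (fun _ _ => Nat.zero_le _)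
      (Finset.mem_univ j)).trans (by omega)) hq (by rw [pow_add, mul_assoc]; exact I.mul_mem_left _ hN')
  have key : HomogeneousLocalization.Away.mk 𝒜 hf m p (by rw [smul_eq_mul, mul_one]; exact hp) =
      ∑ j, HomogeneousLocalization.Away.mk 𝒜 hf (D - a j.castSucc) (c j).1
        (by rw [smul_eq_mul, mul_one]; exact (c j).2) * dh (H j) := by
    refine HomogeneousLocalization.val_injective _ ?_
    rw [← HomogeneousLocalization.algebraMap_apply, ← HomogeneousLocalization.algebraMap_apply]
    refine Eq.trans ?_ (map_sum (algebraMap A L) _ _).symm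
    have e : ∀ j, algebraMap A L (HomogeneousLocalization.Away.mk 𝒜 hf (D - a j.castSucc) (c j).1
        (by rw [smul_eq_mul, mul_one]; exact (c j).2) * dh (H j)) =
        IsLocalization.mk' L ((c j).1 * (H j).1) (⟨f ^ D, D, rfl⟩ : Submonoid.powers f) := by
      intro j
      rw [map_mul]
      rw [HomogeneousLocalization.algebraMap_apply, HomogeneousLocalization.algebraMap_apply]
      rw [HomogeneousLocalization.Away.val_mk, HomogeneousLocalization.Away.val_mk, Localization.mk_mul,
        Localization.mk_eq_mk']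
      congr 1
      refine Subtype.ext ?_
      show f ^ (D - a j.castSucc) * f ^ a j.castSucc = f ^ D
      rw [← pow_add, Nat.sub_add_cancel ((Finset.single_le_sum (f := fun j : Fin r => a j.castSucc)
        (fun _ _ => Nat.zero_le _) (Finset.mem_univ j)).trans (by omega))]
    rw [Finset.sum_congr rfl fun j _ => e j]
    simp only [IsLocalization.mk'_eq_mul_mk'_one (M := Submonoid.powers f) (S := L) ((c _).1 * (H _).1)]
    rw [← Finset.sum_mul, ← map_sum, ← hc, ← IsLocalization.mk'_eq_mul_mk'_one]
    rw [HomogeneousLocalization.algebraMap_apply, HomogeneousLocalization.Away.val_mk, Localization.mk_eq_mk']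
    refine IsLocalization.mk'_eq_of_eq ?_
    show f ^ m * (f ^ (B + N) * p) = f ^ D * p
    rw [← mul_assoc, ← pow_add, show m + (B + N) = D by omega]
  rw [key]
  exact Ideal.sum_mem _ fun j _ => Ideal.mul_mem_left _ _ (Ideal.subset_span ⟨j, rfl⟩)

end Groth.Agent.CI16
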