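import Groth.Agent.CI16.Chart
import Groth.Agent.RB70.RegSectEuler
import Groth.Agent.Var76.RegPow
import Groth.Agent.Crv77.PlaneCoh

/-! Cutting a complete intersection by one more form. -/

set_option autoImplicit false

universe u

open CategoryTheory CategoryTheory.Limits AlgebraicGeometry Opposite TopologicalSpace

noncomputable section

set_option maxSynthPendingDepth 6
set_option backward.isDefEq.respectTransparency false
set_option linter.style.haveILetI false
set_option maxHeartbeats 1000000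
set_option synthInstance.maxHeartbeats 200000

namespace Groth.Agent.CI16

open Var76 Var76.Reg Crv77 RB70.RegSect
open Var76.LineBundle (IsFrame)

variable {k : Type u} [Field k] {n r : ℕ}

theorem ciIdeal_eq_sup {a : Fin (r + 1) → ℕ} (G : ∀ j, LefPen.Form n k (a j)) :
    LefPen.ciIdeal G = (LefPen.ciIdeal fun j : Fin r => G j.castSucc) ⊔ LefPen.hypIdeal (G (Fin.last r)) := by
  refine le_antisymm (iSup_le fun j => ?_) (sup_le (iSup_le fun j => ?_) ?_)
  · induction j using Fin.lastCases with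
    | last => exact le_sup_right
    | cast j => exact le_trans (le_iSup (fun j : Fin r => LefPen.hypIdeal (G j.castSucc)) j) le_sup_left
  · exact le_iSup (fun j => LefPen.hypIdeal (G j)) j.castSucc
  · exact le_iSup (fun j => LefPen.hypIdeal (G j)) (Fin.last r)

/-- Multiplication by a form, between twists. -/
abbrev formMul {d : ℕ} (F : LefPen.Form n k d) {i c : ℤ} (h : c = i + d) :
    Twist.twistProjSpace n k i ⟶ Twist.twistProjSpace n k c :=
  mulSec (Twist.globalOf (CohB1.polyGrading n k) F) h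

theorem formMul_pSec {d : ℕ} (F : LefPen.Form n k d) {i c : ℤ} (h : c = i + d) (l : Fin (n + 1)) :
    (formMul F h).app (xOpen n k l) (pSec l i le_rfl) = dhl F l • pSec l c le_rfl :=
  mulSec_gSec (𝒜 := CohB1.polyGrading n k) (xVar n k l) (Twist.globalOf (CohB1.polyGrading n k) F) h
    (V := xOpen n k l) le_rfl (Crv77.res_globalOf F l)

/-- The sequence cutting by the last form. -/
theorem exists_cutSeq {a : Fin (r + 1) → ℕ} {G : ∀ j, LefPen.Form n k (a j)} (hG : CIReg G) (i c : ℤ)
    (h : c = i + a (Fin.last r)) :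
    ∃ (f : Qu (LefPen.ciIdeal fun j : Fin r => G j.castSucc) (Twist.twistProjSpace n k i) ⟶
        Qu (LefPen.ciIdeal fun j : Fin r => G j.castSucc) (Twist.twistProjSpace n k c))
      (g : Qu (LefPen.ciIdeal fun j : Fin r => G j.castSucc) (Twist.twistProjSpace n k c) ⟶
        Qu (LefPen.ciIdeal G) (Twist.twistProjSpace n k c))
      (w : f ≫ g = 0), (ShortComplex.mk f g w).ShortExact ∧
      qu (LefPen.ciIdeal fun j : Fin r => G j.castSucc) (Twist.twistProjSpace n k c) ≫ g =
        qu (LefPen.ciIdeal G) (Twist.twistProjSpace n k c) := by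
  let P := CohB1.ProjSpace n k
  let J := LefPen.ciIdeal fun j : Fin r => G j.castSucc
  let F := G (Fin.last r)
  let E₁ := Twist.twistProjSpace n k i
  let E := Twist.twistProjSpace n k c
  haveI : E₁.IsQuasicoherent := Pn71.isQCoh_twistProjSpace n k i
  haveI : E.IsQuasicoherent := Pn71.isQCoh_twistProjSpace n k c
  obtain ⟨g, hg⟩ := exists_trans (J := J) (J' := LefPen.ciIdeal G)
    (by rw [ciIdeal_eq_sup]; exact le_sup_left) E
  let f : Qu J E₁ ⟶ Qu J E := (Scheme.Modules.pushforward J.subschemeι).map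
    ((Scheme.Modules.pullback J.subschemeι).map (formMul F h))
  have hnat : qu J E₁ ≫ f = formMul F h ≫ qu J E :=
    ((Scheme.Modules.pullbackPushforwardAdjunction J.subschemeι).unit.naturality (formMul F h)).symm
  have happ : ∀ (U : P.Opens) (z : Γ(E₁, U)),
      f.app U ((qu J E₁).app U z) = (qu J E).app U ((formMul F h).app U z) := fun U z =>
    congr(Scheme.Modules.Hom.app $hnat U z)
  -- on a basic open of a coordinate chart
  have hloc : ∀ (U : P.affineOpens) (l : Fin (n + 1)) (hl : U.1 ≤ xOpen n k l),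
      (∀ z : Γ(E₁, U.1), ∃ b : Γ(P, U.1), z = b • pSec l i hl) ∧
      (∀ b : Γ(P, U.1), (formMul F h).app U.1 (b • pSec l i hl) =
        (b * QC70.resO P hl (dhl F l)) • pSec l c hl) ∧
      (∀ b : Γ(P, U.1), b • pSec (k := k) l c hl ∈ J.ideal U • (⊤ : Submodule Γ(P, U.1) Γ(E, U.1)) ↔
        b ∈ J.ideal U) ∧
      (LefPen.ciIdeal G).ideal U = J.ideal U ⊔ Ideal.span {QC70.resO P hl (dhl F l)} := by
    intro U l hl
    refine ⟨fun z => ?_, fun b => ?_, fun b => ⟨fun hb => ?_, fun hb =>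
      Submodule.smul_mem_smul hb trivial⟩, ?_⟩
    · obtain ⟨b, hb⟩ := (isFrame_pSec (k := k) l i U.1 hl).2 z
      dsimp only at hb
      rw [res_pSec] at hb
      exact ⟨b, hb.symm⟩
    · rw [Scheme.Modules.Hom.app_smul, mul_smul]
      congr 1
      rw [← res_pSec l i hl, QC70.app_res, formMul_pSec, ← res_pSec l c hl]
      exact QC70.res_smul _ _ _
    · obtain ⟨b', hb', e⟩ : ∃ b' ∈ J.ideal U, b' • pSec (k := k) l c hl = b • pSec l c hl := by
        refine Submodule.smul_induction_on (p := fun y => ∃ b' ∈ J.ideal U, b' • pSec (k := k) l c hl = y) hb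
          (fun x hx y _ => ?_) (fun y z hy hz => ?_)
        · obtain ⟨d, hd⟩ := (isFrame_pSec (k := k) l c U.1 hl).2 y
          dsimp only at hd
          rw [res_pSec] at hd
          exact ⟨x * d, Ideal.mul_mem_right _ _ hx, by rw [mul_smul, hd]⟩
        · obtain ⟨u, hu, rfl⟩ := hy
          obtain ⟨v, hv, rfl⟩ := hz
          exact ⟨u + v, add_mem hu hv, add_smul _ _ _⟩
      have : b' = b := (isFrame_pSec (k := k) l c U.1 hl).1 (by
        dsimp only
        rw [res_pSec]
        exact e)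
      exact this ▸ hb'
    · rw [ciIdeal_eq_sup, Scheme.IdealSheafData.ideal_sup, Pi.sup_apply]
      congr 1
      rw [← (LefPen.hypIdeal F).map_ideal (U := U) (V := ⟨xOpen n k l, isAffineOpen_xOpen n k l⟩) hl,
        Crv77.ideal_xOpen, Ideal.map_span, Set.image_singleton]
      rfl
  have hcov : ∀ (W : P.Opens) (p : P), p ∈ W → ∃ (U : P.affineOpens) (_ : U.1 ≤ W) (_ : p ∈ U.1)
      (l : Fin (n + 1)), U.1 ≤ xOpen n k l := by
    intro W p hp
    obtain ⟨l, hl⟩ := exists_mem_xOpen n k p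
    obtain ⟨U, hU, hpU, hle⟩ := exists_isAffineOpen_mem_and_subset (X := P) (x := p) (U := W ⊓ xOpen n k l) ⟨hp, hl⟩
    exact ⟨⟨U, hU⟩, fun z hz => (hle hz).1, hpU, l, fun z hz => (hle hz).2⟩
  have w : f ≫ g = 0 := by
    refine Scheme.Modules.hom_ext _ _ fun W => ?_
    ext y
    refine QC70.section_ext _ _ _ fun p hp => ?_
    obtain ⟨U, hUW, hpU, l, hl⟩ := hcov W p hp
    refine ⟨U.1, hUW, hpU, ?_⟩
    refine (Mero90.app_res (f ≫ g) hUW y).symm.trans ?_
    refine Eq.trans ?_ (map_zero _).symm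
    obtain ⟨z, hz⟩ := QCPull72.pullUnit_app_surjective J.subschemeι E₁ U.2 (QC70.res (Qu J E₁) hUW y)
    obtain ⟨h1, h2, h3, h4⟩ := hloc U l hl
    obtain ⟨b, rfl⟩ := h1 z
    show g.app U.1 (f.app U.1 (QC70.res (Qu J E₁) hUW y)) = 0
    rw [← hz, happ, h2]
    refine (congr(Scheme.Modules.Hom.app $hg U.1 _)).trans ?_
    refine (qu_eq_zero_iff _ E U _).2 ?_
    rw [h4]
    exact Submodule.smul_mem_smul (Ideal.mul_mem_left _ _ (Ideal.mem_sup_right (Ideal.subset_span rfl))) trivial
  haveI : Epi g := by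
    refine QC70.epi_of_locally_surjective _ fun W y p hp => ?_
    obtain ⟨U, hUW, hpU, l, hl⟩ := hcov W p hp
    obtain ⟨z, hz⟩ := trans_surjective E hg U.2 (QC70.res (Qu (LefPen.ciIdeal G) E) hUW y)
    exact ⟨U.1, hUW, z, hpU, hz⟩
  haveI : Mono f := by
    haveI := QCPull72.isQuasicoherent_pullback J.subschemeι E₁
    haveI := QCPull72.isQuasicoherent_pullback J.subschemeι E
    haveI : (Qu J E₁).IsQuasicoherent := QCqs72.isQuasicoherent_pushforward
      (M := (Scheme.Modules.pullback J.subschemeι).obj E₁) J.subschemeι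
    haveI : (Qu J E).IsQuasicoherent := QCqs72.isQuasicoherent_pushforward
      (M := (Scheme.Modules.pullback J.subschemeι).obj E) J.subschemeι
    refine Preadditive.mono_of_kernel_zero (IsZero.eq_of_src ?_ _ _)
    refine isZero_of_sections (QC70.isQuasicoherent_kernel f) (fun l => xOpen n k l)
      (fun l => isAffineOpen_xOpen n k l) (exists_mem_xOpen n k) fun l z => ?_
    refine QC70.app_injective_of_mono (kernel.ι f) (xOpen n k l) ?_
    rw [map_zero]
    let U : P.affineOpens := ⟨xOpen n k l, isAffineOpen_xOpen n k l⟩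
    obtain ⟨y, hy⟩ := QCPull72.pullUnit_app_surjective J.subschemeι E₁ U.2 ((kernel.ι f).app U.1 z)
    obtain ⟨h1, h2, h3, h4⟩ := hloc U l le_rfl
    obtain ⟨b, rfl⟩ := h1 y
    refine hy.symm.trans ((qu_eq_zero_iff J E₁ U _).2 (Submodule.smul_mem_smul ?_ trivial))
    have h0 : f.app U.1 ((qu J E₁).app U.1 (b • pSec l i le_rfl)) = 0 := by
      refine (congrArg (f.app U.1) hy).trans ?_
      exact congr(Scheme.Modules.Hom.app $(kernel.condition f) U.1 z)
    rw [happ, h2, qu_eq_zero_iff, h3, QC70.resO_self] at h0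
    exact mem_of_mul_dehom_mem hG l b h0
  refine ⟨f, g, w, { exact := ?_, mono_f := ‹_›, epi_g := ‹_› }, hg⟩
  rw [ShortComplex.exact_iff_epi_kernel_lift]
  refine QC70.epi_of_locally_surjective _ fun W y p hp => ?_
  obtain ⟨U, hUW, hpU, l, hl⟩ := hcov W p hp
  obtain ⟨h1, h2, h3, h4⟩ := hloc U l hl
  obtain ⟨x, hx⟩ := QCPull72.pullUnit_app_surjective J.subschemeι E U.2 ((kernel.ι g).app U.1 (QC70.res _ hUW y))
  obtain ⟨b, hb⟩ : ∃ b : Γ(P, U.1), x = b • pSec l c hl := by
    obtain ⟨b, hb⟩ := (isFrame_pSec (k := k) l c U.1 hl).2 x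
    dsimp only at hb
    rw [res_pSec] at hb
    exact ⟨b, hb.symm⟩
  have h0 : (qu (LefPen.ciIdeal G) E).app U.1 x = 0 := by
    refine (congr(Scheme.Modules.Hom.app $hg U.1 x)).symm.trans ?_
    refine (congrArg (g.app U.1) hx).trans ?_
    exact congr(Scheme.Modules.Hom.app $(kernel.condition g) U.1 _)
  have hb' : b ∈ (LefPen.ciIdeal G).ideal U := by
    have h5 := (qu_eq_zero_iff _ E U x).1 h0
    rw [hb] at h5
    obtain ⟨b', hb', e⟩ : ∃ b' ∈ (LefPen.ciIdeal G).ideal U, b' • pSec (k := k) l c hl = b • pSec l c hl := by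
      refine Submodule.smul_induction_on (p := fun y => ∃ b' ∈ (LefPen.ciIdeal G).ideal U,
        b' • pSec (k := k) l c hl = y) h5 (fun x' hx' y' _ => ?_) (fun y' z' hy' hz' => ?_)
      · obtain ⟨d, hd⟩ := (isFrame_pSec (k := k) l c U.1 hl).2 y'
        dsimp only at hd
        rw [res_pSec] at hd
        exact ⟨x' * d, Ideal.mul_mem_right _ _ hx', by rw [mul_smul, hd]⟩
      · obtain ⟨u, hu, rfl⟩ := hy'
        obtain ⟨v, hv, rfl⟩ := hz'
        exact ⟨u + v, add_mem hu hv, add_smul _ _ _⟩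
    have : b' = b := (isFrame_pSec (k := k) l c U.1 hl).1 (by
      dsimp only
      rw [res_pSec]
      exact e)
    exact this ▸ hb'
  rw [h4, Submodule.mem_sup] at hb'
  obtain ⟨u, hu, v, hv, rfl⟩ := hb'
  obtain ⟨d, rfl⟩ := Ideal.mem_span_singleton'.1 hv
  refine ⟨U.1, hUW, (qu J E₁).app U.1 (d • pSec l i hl), hpU, ?_⟩
  refine QC70.app_injective_of_mono (kernel.ι g) U.1 ?_
  refine Eq.trans ?_ hx
  refine (congr(Scheme.Modules.Hom.app $(kernel.lift_ι g f w) U.1 _)).trans ?_
  show f.app U.1 ((qu J E₁).app U.1 (d • pSec l i hl)) = (qu J E).app U.1 x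
  rw [happ, h2, hb, add_smul, map_add,
    (qu_eq_zero_iff J E U _).2 ((h3 u).2 hu), zero_add]

end Groth.Agent.CI16
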