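import Groth.Agent.CI16.Height
import Groth.Agent.VarGal.ProjDim

/-! Complete intersections are equidimensional. -/

set_option autoImplicit false

universe u

open CategoryTheory CategoryTheory.Limits AlgebraicGeometry Opposite TopologicalSpace

noncomputable section

set_option backward.isDefEq.respectTransparency false

namespace Groth.Agent.CI16

variable {k : Type u} [Field k] {n r : ℕ} {a : Fin r → ℕ} (G : ∀ j, LefPen.Form n k (a j))

/-- The prime of a maximal point of the common zero set is minimal over the forms. -/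
theorem mem_minimalPrimes_of_maximal (z : CohB1.ProjSpace n k) (hz : z ∈ (LefPen.ciIdeal G).support)
    (hmax : ∀ z' ∈ (LefPen.ciIdeal G).support, z' ⤳ z → z' = z) :
    z.asHomogeneousIdeal.toIdeal ∈ (spanAll G).minimalPrimes := by
  haveI : z.asHomogeneousIdeal.toIdeal.IsPrime := z.isPrime
  obtain ⟨q, hq, hqle⟩ := Ideal.exists_minimalPrimes_le ((mem_support_ciIdeal_iff G z).1 hz)
  have hhom : q.IsHomogeneous (CohB1.polyGrading n k) :=
    VarGal.isHomogeneous_of_mem_minimalPrimes (Ideal.homogeneous_span _ _ (by
      rintro _ ⟨i, rfl⟩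
      exact ⟨a i, (G i).2⟩)) hq
  haveI := hq.1.1
  let z' : CohB1.ProjSpace n k := ⟨⟨q, hhom⟩, hq.1.1, fun h => z.not_irrelevant_le (h.trans hqle)⟩
  have hsp : z' ⤳ z := specializes_iff_mem_closure.2 ((ProjectiveSpectrum.le_iff_mem_closure _ z' z).1 hqle)
  have he := hmax z' ((mem_support_ciIdeal_iff G z').2 hq.1.2) hsp
  rw [← he]
  exact hq

theorem height_le_of_mem_minimalPrimes {Q : Ideal (MvPolynomial (Fin (n + 1)) k)}
    (hQ : Q ∈ (spanAll G).minimalPrimes) : Q.height ≤ (r : ℕ∞) := by
  classical
  haveI := hQ.1.1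
  let s : Finset (MvPolynomial (Fin (n + 1)) k) := Finset.univ.image fun i => (G i).1
  have hs : (↑s : Set (MvPolynomial (Fin (n + 1)) k)) = Set.range fun i => (G i).1 := by simp [s]
  refine (Ideal.height_le_card_of_mem_minimalPrimes_span_finset (s := s) (hs ▸ hQ)).trans ?_
  exact_mod_cast Finset.card_image_le.trans (Finset.card_fin r).le

/-- Every component of a complete intersection has the expected dimension. -/
theorem topologicalKrullDim_component (hr : r ≤ n)
    (hdim : topologicalKrullDim ↥(LefPen.ciIdeal G).subscheme = ((n - r : ℕ) : WithBot ℕ∞))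
    {Z : Set ↥(LefPen.ciIdeal G).subscheme} (hZ : Z ∈ irreducibleComponents ↥(LefPen.ciIdeal G).subscheme) :
    topologicalKrullDim ↥Z = ((n - r : ℕ) : WithBot ℕ∞) := by
  let P := CohB1.ProjSpace n k
  let ι := (LefPen.ciIdeal G).subschemeι
  refine le_antisymm ((topologicalKrullDim_subspace_le _ Z).trans hdim.le) ?_
  have hZc : IsClosed Z := isClosed_of_mem_irreducibleComponents Z hZ
  have hg : IsGenericPoint hZ.1.genericPoint Z := by
    have := hZ.1.isGenericPoint_genericPoint_closure
    rwa [hZc.closure_eq] at this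
  let x := hZ.1.genericPoint
  let z : P := ι x
  have hzs : z ∈ (LefPen.ciIdeal G).support := by
    show z ∈ ((LefPen.ciIdeal G).support : Set P)
    rw [← Scheme.IdealSheafData.range_subschemeι]
    exact Set.mem_range_self x
  have hmax : ∀ z' ∈ (LefPen.ciIdeal G).support, z' ⤳ z → z' = z := by
    intro z' hz' hsp
    have : z' ∈ Set.range ι := by rw [Scheme.IdealSheafData.range_subschemeι]; exact hz'
    obtain ⟨x', rfl⟩ := this
    have hx : x' ⤳ x := ι.isClosedEmbedding.isInducing.specializes_iff.1 hsp
    have hle : closure ({x} : Set _) ≤ closure ({x'} : Set _) :=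
      closure_minimal (Set.singleton_subset_iff.2 hx.mem_closure) isClosed_closure
    rw [hg.def] at hle
    have heq : closure ({x'} : Set _) = Z :=
      le_antisymm (hZ.2 isIrreducible_singleton.closure hle) hle
    exact congrArg ι (IsGenericPoint.eq (show IsGenericPoint x' Z from heq) hg)
  haveI : IsProper (CohB1.ProjSpace.toSpec n k) := Curves2.ProjLine.isProper_toSpec k n
  obtain ⟨N, M, hN, hM, hNM⟩ := LC16.ExtCodim.natCast_le_dim_stalk (CohB1.ProjSpace.toSpec n k) n
    (fun W hW => by
      have := Curves2.ProjLine.isIntegral k n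
      rw [irreducibleComponents_eq_singleton, Set.mem_singleton_iff] at hW
      subst hW
      rw [(Homeomorph.Set.univ _).isHomeomorph.topologicalKrullDim_eq _]
      exact S10829.result k n) z
  have hMr : M ≤ r := by
    have h1 : ((M : ℕ∞) : WithBot ℕ∞) ≤ ((r : ℕ∞) : WithBot ℕ∞) :=
      (hM.trans (ringKrullDim_stalk_le_height z)).trans (WithBot.coe_le_coe.2
        (height_le_of_mem_minimalPrimes G (mem_minimalPrimes_of_maximal G z hzs hmax)))
    exact_mod_cast h1
  have hcl : closure ({z} : Set P) = ι '' Z := by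
    rw [← hg.def, ← ι.isClosedEmbedding.closure_image_eq, Set.image_singleton]
  have hZN : topologicalKrullDim ↥Z = (N : WithBot ℕ∞) := by
    rw [← hN, hcl]
    exact (IsHomeomorph.topologicalKrullDim_eq _
      (ι.isClosedEmbedding.isEmbedding.homeomorphImage Z).isHomeomorph)
  rw [hZN]
  exact_mod_cast (show n - r ≤ N by omega)

end Groth.Agent.CI16
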