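import Groth.Agent.CI16.Vanish
import Groth.Agent.Var76.RegTools
import Groth.Agent.PnConst7.Const
import Groth.Agent.AbSch7.FieldH0
import Groth.Agent.Stein58.Zariski

/-! Global functions of a complete intersection. -/

set_option autoImplicit false

universe u

open CategoryTheory CategoryTheory.Limits AlgebraicGeometry Opposite TopologicalSpace

noncomputable section

set_option maxSynthPendingDepth 6
set_option backward.isDefEq.respectTransparency false
set_option linter.style.haveILetI false
set_option maxHeartbeats 1000000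
set_option synthInstance.maxHeartbeats 200000

namespace Groth.Agent.CI16

open Var76 Var76.Reg Crv77 RB70.RegSect

variable {X : Scheme.{u}}

/-- The structure sheaf restricted to a closed subscheme is the quotient by its ideal. -/
theorem exists_qu_iso_quotMod (J : X.IdealSheafData) [(Coh.structureModule X).IsQuasicoherent] :
    ∃ e : Qu J (Coh.structureModule X) ⟶ ClSub.quotMod J, IsIso e ∧
      qu J (Coh.structureModule X) ≫ e = ClSub.toSubscheme J := by
  let adj := Scheme.Modules.pullbackPushforwardAdjunction J.subschemeι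
  let e := (Scheme.Modules.pushforward J.subschemeι).map ((adj.homEquiv _ _).symm (ClSub.toSubscheme J))
  have hfac : qu J (Coh.structureModule X) ≫ e = ClSub.toSubscheme J := by
    rw [← (adj.homEquiv _ _).apply_symm_apply (ClSub.toSubscheme J)]
    exact (Adjunction.homEquiv_unit adj _ _ _).symm
  have happ : ∀ (U : X.Opens) (a : Γ(Coh.structureModule X, U)),
      e.app U ((qu J (Coh.structureModule X)).app U a) = (ClSub.toSubscheme J).app U a := fun U a =>
    congr(Scheme.Modules.Hom.app $hfac U a)
  haveI : Epi e := by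
    refine QC70.epi_of_locally_surjective _ fun W y p hp => ?_
    obtain ⟨U, hU, hpU, hUW⟩ := exists_isAffineOpen_mem_and_subset (U := W) hp
    obtain ⟨a, ha⟩ := J.subschemeι_app_surjective ⟨U, hU⟩ (QC70.res (ClSub.quotMod J) hUW y)
    exact ⟨U, hUW, (qu J (Coh.structureModule X)).app U a, hpU, (happ U a).trans ha⟩
  haveI : Mono e := by
    refine QC70.mono_of_app_injective _ fun V => (injective_iff_map_eq_zero _).2 fun x hx => ?_
    refine QC70.section_ext _ _ _ fun p hp => ?_
    obtain ⟨U, hU, hpU, hUV⟩ := exists_isAffineOpen_mem_and_subset (U := V) hp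
    refine ⟨U, hUV, hpU, ?_⟩
    obtain ⟨a, ha⟩ := QCPull72.pullUnit_app_surjective J.subschemeι (Coh.structureModule X) hU
      (QC70.res (Qu J (Coh.structureModule X)) hUV x)
    have h0 : J.subschemeι.app U a = 0 := by
      refine (happ U a).symm.trans ((congrArg (e.app U) ha).trans ?_)
      rw [Mero90.app_res]
      exact (congrArg (QC70.res _ hUV) hx).trans (map_zero _)
    have hmem : a ∈ J.ideal ⟨U, hU⟩ := (J.ker_subschemeι_app ⟨U, hU⟩).le h0
    refine ha.symm.trans (((qu_eq_zero_iff J _ ⟨U, hU⟩ a).2 ?_).trans (map_zero _).symm)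
    have h1 : a • (show Γ(Coh.structureModule X, U) from (1 : Γ(X, U))) ∈
        J.ideal ⟨U, hU⟩ • (⊤ : Submodule Γ(X, U) Γ(Coh.structureModule X, U)) :=
      Submodule.smul_mem_smul hmem trivial
    convert h1 using 1
    exact (mul_one (show Γ(X, U) from a)).symm
  exact ⟨e, isIso_of_mono_of_epi e, hfac⟩

variable {k : Type u} [Field k] {n r : ℕ} {a : Fin r → ℕ}

/-- Restriction of global functions to a complete intersection of positive dimension is surjective. -/
theorem surjective_appTop_subschemeι {G : ∀ j, LefPen.Form n k (a j)} (hG : CIReg G) (hrn : r < n) :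
    Function.Surjective (LefPen.ciIdeal G).subschemeι.appTop := by
  let J := LefPen.ciIdeal G
  haveI : (Coh.structureModule (CohB1.ProjSpace n k)).IsQuasicoherent := (Crv77.isCoh_structureModule).1
  obtain ⟨t⟩ := nonempty_twist_zero (n := n) (A := k)
  obtain ⟨e, he, hfac⟩ := exists_qu_iso_quotMod J
  let Φ := (Scheme.Modules.pushforward J.subschemeι).map ((Scheme.Modules.pullback J.subschemeι).map t.hom)
  haveI : IsIso Φ := inferInstance
  have hnat : t.hom ≫ qu J (Coh.structureModule _) = qu J _ ≫ Φ :=
    (Scheme.Modules.pullbackPushforwardAdjunction J.subschemeι).unit.naturality t.hom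
  intro z
  obtain ⟨x, hx⟩ := (vanish_and_surjective G hG).2 hrn 0 ((inv (Φ ≫ e)).app ⊤ z)
  refine ⟨t.hom.app ⊤ x, ?_⟩
  have h1 : t.hom ≫ ClSub.toSubscheme J = qu J _ ≫ (Φ ≫ e) := by
    rw [← hfac, ← Category.assoc, hnat, Category.assoc]
  refine (congr(Scheme.Modules.Hom.app $h1 ⊤ x)).trans ?_
  refine (congrArg ((Φ ≫ e).app ⊤) hx).trans ?_
  exact congr(Scheme.Modules.Hom.app $(IsIso.inv_hom_id (Φ ≫ e)) ⊤ z)

/-- The only global functions on a complete intersection of positive dimension are the constants. -/
theorem bijective_appTop {G : ∀ j, LefPen.Form n k (a j)} (hG : CIReg G) (hrn : r < n)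
    [Nonempty (LefPen.ciIdeal G).subscheme] :
    Function.Bijective ((LefPen.ciIdeal G).subschemeι ≫ CohB1.ProjSpace.toSpec n k).appTop := by
  haveI := Curves2.ProjLine.isProper_toSpec k n
  haveI := (PnConst7.geometricallyConnected_projSpace n k).1
  haveI := (PnConst7.geometricallyConnected_projSpace n k).2
  refine ⟨?_, ?_⟩
  · haveI : Nonempty (⊤ : (LefPen.ciIdeal G).subscheme.Opens) := ⟨⟨Classical.arbitrary _, trivial⟩⟩
    haveI : Nontrivial Γ((LefPen.ciIdeal G).subscheme, ⊤) :=
      (LefPen.ciIdeal G).subscheme.component_nontrivial ⊤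
    have hF : IsField Γ(Spec (CommRingCat.of k), ⊤) :=
      MulEquiv.isField (Field.toIsField k) (Scheme.ΓSpecIso (CommRingCat.of k)).commRingCatIsoToRingEquiv.toMulEquiv
    letI := hF.toField
    exact ((LefPen.ciIdeal G).subschemeι ≫ CohB1.ProjSpace.toSpec n k).appTop.hom.injective
  · rw [Scheme.Hom.comp_appTop]
    exact (surjective_appTop_subschemeι hG hrn).comp
      (AbSch7.appTop_bijective_of_field (CohB1.ProjSpace.toSpec n k)).2

end Groth.Agent.CI16
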