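import Groth.Agent.CI16.Regular
import Groth.Agent.LC16.ExtCodim
import Groth.Agent.An92.Lef.Points
import Groth.Agent.Curves2.ProjLine
import Groth.Agent.S10829
import Groth.Agent.Curves2.ProjLineProper
import Groth.Agent.Var76.ProjCoord

/-! The dimension of a complete intersection bounds the height of the homogeneous primes containing its forms. -/

set_option autoImplicit false

universe u

open CategoryTheory CategoryTheory.Limits AlgebraicGeometry Opposite TopologicalSpace

noncomputable section

set_option backward.isDefEq.respectTransparency false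

namespace Groth.Agent.CI16

variable {k : Type u} [Field k] {n r : ℕ} {a : Fin r → ℕ} (G : ∀ j, LefPen.Form n k (a j))

/-- A point lies on a hypersurface exactly when its prime contains the form. -/
theorem mem_support_hypIdeal_iff {d : ℕ} (F : LefPen.Form n k d) (x : CohB1.ProjSpace n k) :
    x ∈ (LefPen.hypIdeal F).support ↔ F.1 ∈ x.asHomogeneousIdeal := by
  obtain ⟨l, hl⟩ := Var76.ProjCoord.exists_mem_U k n x
  rw [Scheme.IdealSheafData.mem_support_iff_of_mem
    (U := ⟨LefPen.chart n k l, Var76.ProjCoord.isAffineOpen_U k n l⟩) hl, An92.Lef.hypIdeal_chart,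
    Scheme.zeroLocus_span, Scheme.mem_zeroLocus_iff]
  simp [An92.Lef.mem_basicOpen_dehom F l hl]

/-- A point lies on the complete intersection exactly when its prime contains all the forms. -/
theorem mem_support_ciIdeal_iff (x : CohB1.ProjSpace n k) :
    x ∈ (LefPen.ciIdeal G).support ↔ spanAll G ≤ x.asHomogeneousIdeal.toIdeal := by
  rw [Ideal.span_le]
  constructor
  · rintro h _ ⟨j, rfl⟩
    exact (mem_support_hypIdeal_iff (G j) x).1
      (Scheme.IdealSheafData.support_antitone (le_iSup (fun j => LefPen.hypIdeal (G j)) j) h)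
  · intro h
    obtain ⟨l, hl⟩ := Var76.ProjCoord.exists_mem_U k n x
    rw [LefPen.ciIdeal, Scheme.IdealSheafData.mem_support_iff_of_mem
      (U := ⟨LefPen.chart n k l, Var76.ProjCoord.isAffineOpen_U k n l⟩) hl,
      Scheme.IdealSheafData.ideal_iSup, iSup_apply, Scheme.mem_zeroLocus_iff]
    intro f hf hfx
    have hle : (⨆ j, (LefPen.hypIdeal (G j)).ideal ⟨LefPen.chart n k l, Var76.ProjCoord.isAffineOpen_U k n l⟩) ≤
        (IsLocalRing.maximalIdeal _).comap ((CohB1.ProjSpace n k).presheaf.germ (LefPen.chart n k l) x hl).hom :=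
      iSup_le fun j => by
        rw [An92.Lef.hypIdeal_chart, Ideal.span_le, Set.singleton_subset_iff]
        intro hu
        exact (An92.Lef.mem_basicOpen_dehom (G j) l hl).1 ((Scheme.mem_basicOpen _ _ _ hl).2 hu) (h ⟨j, rfl⟩)
    exact hle hf ((Scheme.mem_basicOpen _ _ _ hl).1 hfx)

theorem specializes_le {x y : CohB1.ProjSpace n k} (h : x ⤳ y) :
    x.asHomogeneousIdeal ≤ y.asHomogeneousIdeal :=
  (ProjectiveSpectrum.le_iff_mem_closure _ x y).2 h.mem_closure

/-- The dimension of the local ring is at most the height of the homogeneous prime. -/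
theorem ringKrullDim_stalk_le_height (z : CohB1.ProjSpace n k) :
    ringKrullDim ((CohB1.ProjSpace n k).presheaf.stalk z) ≤ (z.asHomogeneousIdeal.toIdeal.height : WithBot ℕ∞) := by
  let P := CohB1.ProjSpace n k
  haveI : z.asHomogeneousIdeal.toIdeal.IsPrime := z.isPrime
  let φ : PrimeSpectrum (P.presheaf.stalk z) → PrimeSpectrum (MvPolynomial (Fin (n + 1)) k) :=
    fun q => ⟨(P.fromSpecStalk z q).asHomogeneousIdeal.toIdeal, (P.fromSpecStalk z q).isPrime⟩
  have hmono : StrictMono φ := by
    intro q q' hlt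
    have hle : q ⤳ q' := (PrimeSpectrum.le_iff_specializes _ _).1 hlt.le
    refine lt_of_le_of_ne (specializes_le (hle.map (P.fromSpecStalk z).continuous)) fun he => hlt.ne ?_
    exact (P.fromSpecStalk z).isEmbedding.injective
      (ProjectiveSpectrum.ext (HomogeneousIdeal.toIdeal_injective (congrArg PrimeSpectrum.asIdeal he)))
  rw [PrimeSpectrum.height_eq_orderHeight ⟨z.asHomogeneousIdeal.toIdeal, z.isPrime⟩]
  refine iSup_le fun l => ?_
  exact WithBot.coe_le_coe.2 (Order.length_le_height (p := l.map φ hmono)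
    (show (l.map φ hmono).last ≤ _ by
      rw [LTSeries.last_map]
      exact specializes_le (Cyc90.fromSpecStalk_specializes l.last)))

/-- Homogeneous primes containing the forms have height at least their number. -/
theorem le_height_of_dim (hr : r ≤ n) (ha : ∀ j, 1 ≤ a j)
    (hdim : topologicalKrullDim ↥(LefPen.ciIdeal G).subscheme = ((n - r : ℕ) : WithBot ℕ∞))
    (Q : Ideal (MvPolynomial (Fin (n + 1)) k)) [Q.IsPrime] (hQ : Q.IsHomogeneous (CohB1.polyGrading n k))
    (hGQ : spanAll G ≤ Q) : (r : ℕ∞) ≤ Q.height := by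
  let P := CohB1.ProjSpace n k
  let ι := (LefPen.ciIdeal G).subschemeι
  have key : ∀ z : P, z ∈ (LefPen.ciIdeal G).support → (r : ℕ∞) ≤ z.asHomogeneousIdeal.toIdeal.height := by
    intro z hz
    haveI : IsProper (CohB1.ProjSpace.toSpec n k) := Curves2.ProjLine.isProper_toSpec k n
    obtain ⟨N, M, hN, hM, hNM⟩ := LC16.ExtCodim.natCast_le_dim_stalk (CohB1.ProjSpace.toSpec n k) n
      (fun Z hZ => by
        have := Curves2.ProjLine.isIntegral k n
        rw [irreducibleComponents_eq_singleton, Set.mem_singleton_iff] at hZ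
        subst hZ
        rw [(Homeomorph.Set.univ _).isHomeomorph.topologicalKrullDim_eq _]
        exact S10829.result k n) z
    have hle : (N : WithBot ℕ∞) ≤ ((n - r : ℕ) : WithBot ℕ∞) := by
      rw [← hN, ← hdim]
      have hcl : closure ({z} : Set P) ⊆ Set.range ι := by
        refine closure_minimal (Set.singleton_subset_iff.2 ?_) ι.isClosedEmbedding.isClosed_range
        rw [Scheme.IdealSheafData.range_subschemeι]
        exact hz
      refine (Topology.IsEmbedding.inclusion hcl).isInducing.topologicalKrullDim_le.trans ?_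
      exact (IsHomeomorph.topologicalKrullDim_eq _ ι.isClosedEmbedding.isEmbedding.toHomeomorph.isHomeomorph).ge
    have hN' : N ≤ n - r := by exact_mod_cast hle
    have h1 : ((M : ℕ) : WithBot ℕ∞) ≤ (z.asHomogeneousIdeal.toIdeal.height : WithBot ℕ∞) :=
      hM.trans (ringKrullDim_stalk_le_height z)
    have h2 : ((M : ℕ) : ℕ∞) ≤ z.asHomogeneousIdeal.toIdeal.height := WithBot.coe_le_coe.1 h1
    exact le_trans (by exact_mod_cast (show r ≤ M by omega)) h2
  by_cases hX : ∀ i, (MvPolynomial.X i : MvPolynomial (Fin (n + 1)) k) ∈ Q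
  · haveI : Nonempty ↥(LefPen.ciIdeal G).subscheme := by
      by_contra he
      rw [not_nonempty_iff] at he
      haveI : IsEmpty (IrreducibleCloseds ↥(LefPen.ciIdeal G).subscheme) :=
        ⟨fun Z => IsEmpty.false Z.isIrreducible.nonempty.some⟩
      rw [topologicalKrullDim, Order.krullDim_eq_bot] at hdim
      exact WithBot.bot_ne_coe hdim
    obtain ⟨w⟩ := ‹Nonempty ↥(LefPen.ciIdeal G).subscheme›
    have hz : ι w ∈ ((LefPen.ciIdeal G).support : Set P) := by
      rw [← Scheme.IdealSheafData.range_subschemeι]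
      exact Set.mem_range_self w
    refine (key _ hz).trans (Ideal.height_mono fun f hf => ?_)
    have hle : origin (k := k) (n := n) ≤ Q := by
      intro g hg
      rw [RingHom.mem_ker] at hg
      rw [MvPolynomial.as_sum g]
      refine Q.sum_mem fun d hd => ?_
      obtain ⟨i, hi⟩ : ∃ i, d i ≠ 0 := by
        by_contra! h
        have : d = 0 := Finsupp.ext h
        subst this
        exact (MvPolynomial.mem_support_iff.1 hd) hg
      rw [MvPolynomial.monomial_eq, Finsupp.prod]
      refine Q.mul_mem_left _ ?_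
      rw [← Finset.mul_prod_erase _ _ (Finsupp.mem_support_iff.2 hi)]
      exact Q.mul_mem_right _ (Ideal.pow_mem_of_mem _ (hX i) _ (Nat.pos_of_ne_zero hi))
    refine hle ?_
    by_contra hne
    refine (ι w).isPrime.ne_top (Ideal.eq_top_of_isUnit_mem _ ?_ ((isUnit_iff_ne_zero.2 hne).map MvPolynomial.C))
    exact MvPolynomial.homogeneousComponent_zero f ▸
      MvPolynomial.homogeneousComponent_mem_of_mem (ι w).asHomogeneousIdeal.isHomogeneous hf 0
  · push Not at hX
    obtain ⟨i, hi⟩ := hX
    let z : P := ⟨⟨Q, hQ⟩, inferInstance, fun h => hi (h (by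
      rw [HomogeneousIdeal.mem_irrelevant_iff, GradedRing.proj_apply, ← DirectSum.Decomposition.decompose'_eq,
        MvPolynomial.decomposition.decompose'_apply,
        MvPolynomial.homogeneousComponent_of_mem (LefPen.X_mem n k i), if_neg zero_ne_one]))⟩
    exact key z ((mem_support_ciIdeal_iff G z).2 hGQ)

/-- A complete intersection is given by a regular sequence. -/
theorem ciReg_of_dim (hr : r ≤ n) (ha : ∀ j, 1 ≤ a j)
    (hdim : topologicalKrullDim ↥(LefPen.ciIdeal G).subscheme = ((n - r : ℕ) : WithBot ℕ∞)) : CIReg G :=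
  ciReg_of_height G ha fun Q hQ hh hle => by
    haveI := hQ
    exact le_height_of_dim G hr ha hdim Q hh hle

/-- Dropping the last form. -/
theorem CIReg.castSucc {r : ℕ} {a : Fin (r + 1) → ℕ} {G : ∀ j, LefPen.Form n k (a j)} (h : CIReg G) :
    CIReg (fun j : Fin r => G j.castSucc) := by
  intro j f hf
  have e : spanLt G j.castSucc = spanLt (fun j : Fin r => G j.castSucc) j := by
    refine congrArg Ideal.span (Set.ext fun x => ?_)
    constructor
    · rintro ⟨i, hi, rfl⟩
      exact ⟨⟨i.1, lt_trans (Fin.lt_def.1 hi) j.2⟩, Fin.lt_def.2 (by exact Fin.lt_def.1 hi), rfl⟩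
    · rintro ⟨i, hi, rfl⟩
      exact ⟨i.castSucc, Fin.castSucc_lt_castSucc_iff.2 hi, rfl⟩
  rw [← e] at hf ⊢
  exact h j.castSucc f hf

/-- The last form is a non zero-divisor modulo the others. -/
theorem CIReg.last {r : ℕ} {a : Fin (r + 1) → ℕ} {G : ∀ j, LefPen.Form n k (a j)} (h : CIReg G)
    (f : MvPolynomial (Fin (n + 1)) k) (hf : f * (G (Fin.last r)).1 ∈ spanAll (fun j : Fin r => G j.castSucc)) :
    f ∈ spanAll (fun j : Fin r => G j.castSucc) := by
  have e : spanLt G (Fin.last r) = spanAll (fun j : Fin r => G j.castSucc) := by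
    refine congrArg Ideal.span (Set.ext fun x => ?_)
    constructor
    · rintro ⟨i, hi, rfl⟩
      exact ⟨i.castPred (Fin.lt_def.1 hi |> fun h => Fin.ne_of_lt (Fin.lt_def.2 h)), rfl⟩
    · rintro ⟨i, rfl⟩
      exact ⟨i.castSucc, Fin.castSucc_lt_last i, rfl⟩
  rw [← e] at hf ⊢
  exact h _ f hf

end Groth.Agent.CI16
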