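import Groth.Agent.CI16.TwistDims
import Groth.Agent.Crv77.IdealSeq
import Groth.Agent.Curves2.ProjLine
import Groth.Agent.TopDim50.Basic
import Groth.Agent.Var76.RegChase
import Groth.Agent.S10829

/-! Cohomology of the twists of the structure sheaf of a hypersurface of projective space. -/

universe u

open CategoryTheory CategoryTheory.Limits AlgebraicGeometry Opposite TopologicalSpace

noncomputable section

set_option maxSynthPendingDepth 6
set_option backward.isDefEq.respectTransparency false

namespace Groth.Agent.CI16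

open Var76 Var76.Reg Crv77

variable {k : Type u} [Field k] {N : ℕ}

/-- An ideal sheaf isomorphic to a twist does not contain the generic point. -/
theorem genericPoint_not_mem_support (I : (CohB1.ProjSpace N k).IdealSheafData) (m : ℤ)
    (hI : Nonempty (ClSub.idealMod I ≅ Twist.twistProjSpace N k m))
    [IsIntegral (CohB1.ProjSpace N k)] :
    genericPoint (CohB1.ProjSpace N k) ∉ I.support := by
  obtain ⟨e⟩ := hI
  let P := CohB1.ProjSpace N k
  obtain ⟨l, hl⟩ := exists_mem_xOpen N k (genericPoint P)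
  let V : P.affineOpens := ⟨xOpen N k l, isAffineOpen_xOpen N k l⟩
  haveI : Nonempty V.1 := ⟨⟨_, hl⟩⟩
  let t := pSec (k := k) l m le_rfl
  let a : Γ(P, V.1) := OmegaSh.fnSect _ _ ((ClSub.idealModι I).app V.1 (e.inv.app V.1 t))
  have ha : a ∈ I.ideal V := by
    rw [← I.ker_subschemeι_app V, RingHom.mem_ker]
    exact congr((Scheme.Modules.Hom.app $(kernel.condition (ClSub.toSubscheme I)) V.1) (e.inv.app V.1 t))
  have ha0 : a ≠ 0 := by
    intro h
    haveI : Mono (ClSub.idealModι I) := inferInstanceAs (Mono (kernel.ι (ClSub.toSubscheme I)))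
    have h1 : e.inv.app V.1 t = 0 := by
      refine QC70.app_injective_of_mono (ClSub.idealModι I) V.1 ?_
      rw [map_zero]
      exact h
    have h2 : t = 0 := by
      refine QC70.app_injective_of_mono e.inv V.1 ?_
      rw [map_zero]
      exact h1
    have h3 := isFrame_pSec (k := k) l m V.1 le_rfl
    have h4 : (1 : Γ(P, V.1)) = 0 := h3.1 (by
      dsimp only
      rw [res_pSec]
      change (1 : Γ(P, V.1)) • t = (0 : Γ(P, V.1)) • t
      rw [h2, smul_zero, smul_zero])
    exact one_ne_zero h4
  intro hη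
  rw [Scheme.IdealSheafData.mem_support_iff_of_mem (U := V) hl, Scheme.mem_zeroLocus_iff] at hη
  refine hη a ha ?_
  have hne : P.basicOpen a ≠ ⊥ := fun h => ha0 ((basicOpen_eq_bot_iff a).1 h)
  rw [Opens.ne_bot_iff_nonempty] at hne
  obtain ⟨z, hz⟩ := hne
  exact ((genericPoint_spec P).specializes (y := z) trivial).mem_open (P.basicOpen a).isOpen hz

/-- The structure sheaf of a hypersurface has no cohomology in degree `N`. -/
theorem subsingleton_hh_quot_top (hN : 1 ≤ N) (I : (CohB1.ProjSpace N k).IdealSheafData) (m : ℤ)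
    (hI : Nonempty (ClSub.idealMod I ≅ Twist.twistProjSpace N k m)) (j : ℤ) (i : ℕ) (hi : N ≤ i) :
    Subsingleton (Coh.HH (CohB1.ProjSpace N k) (tw N k (ClSub.quotMod I) j) i) := by
  let P := CohB1.ProjSpace N k
  haveI := Curves2.ProjLine.isIntegral k N
  obtain ⟨d, rfl⟩ : ∃ d, N = d + 1 := ⟨N - 1, by omega⟩
  have hη := genericPoint_not_mem_support I m hI
  have hT : topologicalKrullDim (I.support : Set P) ≤ (d : WithBot ℕ∞) := by
    have hlt := TopDim50.dim_lt_of_ssubset (X := P) (by rw [S10829.result k (d + 1)]; exact WithBot.coe_injective.ne (ENat.coe_ne_top _))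
      I.support.isClosed (fun h => hη (h.symm ▸ Set.mem_univ (genericPoint P) : genericPoint P ∈ (I.support : Set P)))
    rw [S10829.result k (d + 1)] at hlt
    cases hc : topologicalKrullDim (I.support : Set P) with
    | bot => exact bot_le
    | coe a =>
      rw [hc] at hlt
      have ha : a < ((d + 1 : ℕ) : ℕ∞) := WithBot.coe_lt_coe.1 hlt
      rw [Nat.cast_add, Nat.cast_one, ENat.lt_coe_add_one_iff] at ha
      exact WithBot.coe_le_coe.2 ha
  refine subsingleton_hh_tw_of_dim (isCoh_quotMod I) (d := d) ?_ j i (by omega)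
  refine ((Topology.IsEmbedding.inclusion (fun x hx => ?_)).isInducing.topologicalKrullDim_le).trans hT
  by_contra hx'
  exact hx (suppIn_quotMod I x hx')

/-- The cohomology sequence of a hypersurface, twisted. -/
theorem exists_seq (I : (CohB1.ProjSpace N k).IdealSheafData) (m : ℤ)
    (hI : Nonempty (ClSub.idealMod I ≅ Twist.twistProjSpace N k m)) (n : ℤ) :
    ∃ S : ShortComplex (CohB1.ProjSpace N k).Modules, S.ShortExact ∧
      Nonempty (S.X₁ ≅ Twist.twistProjSpace N k (m + n)) ∧ Nonempty (S.X₂ ≅ Twist.twistProjSpace N k n) ∧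
      S.X₃ = tw N k (ClSub.quotMod I) n := by
  obtain ⟨e⟩ := hI
  obtain ⟨e'⟩ := nonempty_twist_add (n := N) (A := k) (rfl : m + n = m + n)
  obtain ⟨w, hw⟩ := shortExact_twMap (idealSeq_shortExact I) n
  exact ⟨_, hw, ⟨EGA73.tensIso e (Iso.refl _) ≪≫ e'⟩, ⟨EGA73.tensUnitLeft _⟩, rfl⟩

variable {X : Scheme.{u}} [X.Over (Spec (CommRingCat.of k))]

theorem finrank_mid {S : ShortComplex X.Modules} (q : ℕ)
    [Module.Finite k (Coh.HH X S.X₂ q)] (hi : Function.Injective (hmap k S.f q))
    (hs : Function.Surjective (hmap k S.g q))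
    (he : Function.Exact (hmap k S.f q) (hmap k S.g q)) :
    Module.finrank k (Coh.HH X S.X₁ q) + Module.finrank k (Coh.HH X S.X₃ q) =
      Module.finrank k (Coh.HH X S.X₂ q) := by
  have h := LinearMap.finrank_range_add_finrank_ker (hmap k S.g q)
  rw [LinearMap.range_eq_top.2 hs, finrank_top, LinearMap.exact_iff.1 he,
    LinearMap.finrank_range_of_inj hi] at h
  omega

end Groth.Agent.CI16
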