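import Groth.Agent.CI16.Chart
import Groth.Agent.CI16.Height
import Groth.Agent.Crv77.PlaneCoh
import Groth.Agent.Amp73.PullTensor
import Groth.Agent.MP99.Basic

/-! The ideal of a complete intersection inside the previous one. -/

set_option autoImplicit false

universe u

open CategoryTheory CategoryTheory.Limits AlgebraicGeometry Opposite TopologicalSpace

noncomputable section

set_option maxSynthPendingDepth 6
set_option backward.isDefEq.respectTransparency false
set_option linter.style.haveILetI false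
set_option maxHeartbeats 1000000
set_option synthInstance.maxHeartbeats 200000

namespace Groth.Agent.CI16

open Var76 Var76.Reg Crv77 Var76.LineBundle
open scoped nonZeroDivisors

variable {k : Type u} [Field k] {n r : ℕ}

/-- The ideal of the complete intersection inside the previous one is a twist. -/
theorem nonempty_idealMod_iso {a : Fin (r + 1) → ℕ} {G : ∀ j, LefPen.Form n k (a j)} (hG : CIReg G) :
    Nonempty (ClSub.idealMod ((LefPen.hypIdeal (G (Fin.last r))).comap
        (LefPen.ciIdeal fun j : Fin r => G j.castSucc).subschemeι) ≅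
      (Scheme.Modules.pullback (LefPen.ciIdeal fun j : Fin r => G j.castSucc).subschemeι).obj
        (Twist.twistProjSpace n k (-(a (Fin.last r) : ℤ)))) := by
  let P := CohB1.ProjSpace n k
  let J := LefPen.ciIdeal fun j : Fin r => G j.castSucc
  let ι := J.subschemeι
  let F := G (Fin.last r)
  let d : ℤ := (a (Fin.last r) : ℤ)
  let I := (LefPen.hypIdeal F).comap ι
  let E := Twist.twistProjSpace n k (-d)
  obtain ⟨e0⟩ := nonempty_twist_zero (n := n) (A := k)
  let ψ : E ⟶ Coh.structureModule P :=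
    mulSec (Twist.globalOf (CohB1.polyGrading n k) F) (show (0 : ℤ) = -d + a (Fin.last r) by ring) ≫ e0.hom
  let φ : (Scheme.Modules.pullback ι).obj E ⟶ Coh.structureModule J.subscheme :=
    (Scheme.Modules.pullback ι).map ψ ≫ (PicLoc.pullbackStructureIso ι).hom
  let e : ∀ l, Γ((Scheme.Modules.pullback ι).obj E, ι ⁻¹ᵁ xOpen n k l) :=
    fun l => Amp73.pullS ι E (xOpen n k l) (pSec l (-d) le_rfl)
  let V : Fin (n + 1) → J.subscheme.affineOpens := fun l =>
    ⟨ι ⁻¹ᵁ xOpen n k l, (isAffineOpen_xOpen n k l).preimage ι⟩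
  have he : ∀ l, IsFrame ((Scheme.Modules.pullback ι).obj E) (ι ⁻¹ᵁ xOpen n k l) (e l) := fun l =>
    Amp73.isFrame_pullS ι (isInvertible_twist _) (isFrame_pSec (k := k) l (-d))
  have hI : ∀ l, I.ideal (V l) = Ideal.span {ι.app (xOpen n k l) (dhl F l)} := fun l => by
    refine (MP99.ideal_comap (LefPen.hypIdeal F) ι ⟨xOpen n k l, isAffineOpen_xOpen n k l⟩ (V l) le_rfl).trans ?_
    rw [Crv77.ideal_xOpen, Ideal.map_span, Set.image_singleton, ← Scheme.Hom.app_eq_appLE]
    rfl
  have hnzd : ∀ l, ι.app (xOpen n k l) (dhl F l) ∈ Γ(J.subscheme, ι ⁻¹ᵁ xOpen n k l)⁰ := fun l => by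
    refine mem_nonZeroDivisors_iff_right.2 fun z hz => ?_
    obtain ⟨x, rfl⟩ := J.subschemeι_app_surjective ⟨xOpen n k l, isAffineOpen_xOpen n k l⟩ z
    rw [← map_mul] at hz
    exact (J.ker_subschemeι_app ⟨xOpen n k l, isAffineOpen_xOpen n k l⟩).ge
      (mem_of_mul_dehom_mem hG l x ((J.ker_subschemeι_app ⟨xOpen n k l, isAffineOpen_xOpen n k l⟩).le hz))
  have key : ∀ l, ∃ u : Γ(J.subscheme, ι ⁻¹ᵁ xOpen n k l), IsUnit u ∧
      OmegaSh.fnSect _ _ (φ.app (ι ⁻¹ᵁ xOpen n k l) (e l)) = ι.app (xOpen n k l) (dhl F l) * u := by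
    intro l
    let w : Γ(P, xOpen n k l) := OmegaSh.fnSect _ _ (e0.hom.app (xOpen n k l) (pSec l 0 le_rfl))
    have hw : IsUnit w := by
      have hb : Function.Bijective (e0.hom.app (xOpen n k l)) :=
        ConcreteCategory.bijective_of_isIso (e0.hom.app (xOpen n k l))
      obtain ⟨z, hz⟩ := hb.2 ((1 : Γ(P, xOpen n k l)) : Γ(Coh.structureModule P, xOpen n k l))
      obtain ⟨c, rfl⟩ := (isFrame_pSec (k := k) l 0 (xOpen n k l) le_rfl).2 z
      refine IsUnit.of_mul_eq_one c ?_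
      have h1 : c • (e0.hom.app (xOpen n k l)) (pSec l 0 le_rfl) =
          ((1 : Γ(P, xOpen n k l)) : Γ(Coh.structureModule P, xOpen n k l)) := by
        rw [← Scheme.Modules.Hom.app_smul]
        rw [res_pSec] at hz
        exact hz
      rw [mul_comm]
      exact h1
    refine ⟨ι.app (xOpen n k l) w, hw.map _, ?_⟩
    have h := mulSec_gSec (𝒜 := CohB1.polyGrading n k) (xVar n k l)
      (Twist.globalOf (CohB1.polyGrading n k) F) (show (0 : ℤ) = -d + a (Fin.last r) by ring)
      (V := xOpen n k l) le_rfl (res_globalOf F l)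
    let one : Γ(Coh.structureModule P, xOpen n k l) := (1 : Γ(P, xOpen n k l))
    have h2 : ψ.app (xOpen n k l) (pSec l (-d) le_rfl) = (dhl F l * w) • one := by
      refine ((congrArg (e0.hom.app (xOpen n k l)) h).trans (Scheme.Modules.Hom.app_smul _ _ _)).trans ?_
      exact (mul_one (dhl F l * w)).symm
    have h3 : φ.app (ι ⁻¹ᵁ xOpen n k l) (e l) = ι.app (xOpen n k l) (dhl F l * w) •
        ((1 : Γ(J.subscheme, ι ⁻¹ᵁ xOpen n k l)) :
          Γ(Coh.structureModule J.subscheme, ι ⁻¹ᵁ xOpen n k l)) := by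
      show (PicLoc.pullbackStructureIso ι).hom.app _ (((Scheme.Modules.pullback ι).map ψ).app _ (e l)) = _
      rw [Amp73.map_app_pullS, h2, Amp73.pullS_smul, Scheme.Modules.Hom.app_smul,
        Amp73.pullbackStructureIso_pullS]
    refine (congrArg (OmegaSh.fnSect _ _) h3).trans ?_
    rw [← map_mul]
    exact mul_one (ι.app (xOpen n k l) (dhl F l * w))
  have hmem : ∀ l, ∃ m : Γ(ClSub.idealMod I, ι ⁻¹ᵁ xOpen n k l),
      (ClSub.idealModι I).app (ι ⁻¹ᵁ xOpen n k l) m = φ.app (ι ⁻¹ᵁ xOpen n k l) (e l) := by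
    intro l
    obtain ⟨u, -, hu⟩ := key l
    have hIu : ι.app (xOpen n k l) (dhl F l) * u ∈ I.ideal (V l) := by
      rw [hI]
      exact Ideal.mul_mem_right _ _ (Ideal.mem_span_singleton_self _)
    obtain ⟨m, hm⟩ := Curves2.exists_idealSect_of_mem I (V l) hIu
    exact ⟨m, hm.trans hu.symm⟩
  have hcov : ∀ q : J.subscheme, ∃ l, q ∈ ι ⁻¹ᵁ xOpen n k l := fun q => exists_mem_xOpen n k (ι q)
  have hφ : φ ≫ ClSub.toSubscheme I = 0 := by
    refine Scheme.Modules.hom_ext _ _ fun W => ?_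
    ext z
    refine QC70.section_ext _ _ _ fun q hq => ?_
    obtain ⟨l, hl⟩ := hcov q
    refine ⟨W ⊓ ι ⁻¹ᵁ xOpen n k l, inf_le_left, ⟨hq, hl⟩, ?_⟩
    refine (QC70.app_res (φ ≫ ClSub.toSubscheme I) inf_le_left z).symm.trans ?_
    refine Eq.trans ?_ (map_zero _).symm
    obtain ⟨c, hc⟩ := (he l (W ⊓ ι ⁻¹ᵁ xOpen n k l) inf_le_right).2
      (res ((Scheme.Modules.pullback ι).obj E) inf_le_left z)
    have h0 : (φ ≫ ClSub.toSubscheme I).app (ι ⁻¹ᵁ xOpen n k l) (e l) = 0 := by
      obtain ⟨m, hm⟩ := hmem l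
      refine (congrArg ((ClSub.toSubscheme I).app (ι ⁻¹ᵁ xOpen n k l)) hm.symm).trans ?_
      exact congr((Scheme.Modules.Hom.app $(kernel.condition (ClSub.toSubscheme I)) (ι ⁻¹ᵁ xOpen n k l)) m)
    refine (congrArg _ hc.symm).trans ((Scheme.Modules.Hom.app_smul _ _ _).trans ?_)
    erw [QC70.app_res (φ ≫ ClSub.toSubscheme I), h0]
    exact (congrArg (c • ·) (map_zero _)).trans (smul_zero c)
  let lam : (Scheme.Modules.pullback ι).obj E ⟶ ClSub.idealMod I := kernel.lift _ φ hφ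
  have : IsIso lam := by
    refine Amp73.isIso_of_frames lam fun x => ?_
    obtain ⟨l, hl⟩ := hcov x
    refine ⟨ι ⁻¹ᵁ xOpen n k l, e l, hl, he l, ?_⟩
    obtain ⟨u, hu, hu'⟩ := key l
    refine Curves2.isFrame_of_span I (V l) (f := ι.app (xOpen n k l) (dhl F l) * u)
      (mul_mem (hnzd l) hu.mem_nonZeroDivisors) ?_ _ ?_
    · rw [hI, Ideal.span_singleton_mul_right_unit hu]
    · refine Eq.trans ?_ hu'
      exact congrArg (OmegaSh.fnSect _ _)
        congr((Scheme.Modules.Hom.app $(kernel.lift_ι (ClSub.toSubscheme I) φ hφ) (ι ⁻¹ᵁ xOpen n k l)) (e l))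
  exact ⟨(asIso lam).symm⟩

end Groth.Agent.CI16
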