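import Groth.Prelude.Def_LefPen
import Groth.Agent.RelGCI94.LocalCI
import Mathlib.RingTheory.GradedAlgebra.Radical
import Mathlib.RingTheory.RegularLocalRing.Polynomial

/-! Forms cutting out a set of the expected codimension form a regular sequence. -/

set_option autoImplicit false

universe u

open MvPolynomial

noncomputable section

namespace Groth.Agent.CI16

variable {k : Type u} [Field k] {n r : ℕ} {a : Fin r → ℕ} (G : ∀ j, LefPen.Form n k (a j))

/-- The ideal of the forms before the `j`-th. -/
abbrev spanLt (j : Fin r) : Ideal (MvPolynomial (Fin (n + 1)) k) :=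
  Ideal.span ((fun i => (G i).1) '' Set.Iio j)

/-- The ideal of all the forms. -/
abbrev spanAll : Ideal (MvPolynomial (Fin (n + 1)) k) := Ideal.span (Set.range fun i => (G i).1)

/-- The forms are a regular sequence in the polynomial ring. -/
def CIReg : Prop :=
  ∀ (j : Fin r) (f : MvPolynomial (Fin (n + 1)) k), f * (G j).1 ∈ spanLt G j → f ∈ spanLt G j

theorem isHomogeneous_span_image (s : Set (Fin r)) :
    (Ideal.span ((fun i => (G i).1) '' s)).IsHomogeneous (CohB1.polyGrading n k) :=
  Ideal.homogeneous_span _ _ (by
    rintro _ ⟨i, -, rfl⟩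
    exact ⟨a i, (G i).2⟩)

/-- Chains above an ideal all whose primes have height at least `r`. -/
theorem dim_quotient_add_le {R : Type u} [CommRing R] (J : Ideal R) (r N : ℕ) (hN : ringKrullDim R = N)
    (hJ : ∀ p : Ideal R, p.IsPrime → J ≤ p → (r : ℕ∞) ≤ p.height) :
    ringKrullDim (R ⧸ J) + (r : WithBot ℕ∞) ≤ ringKrullDim R := by
  have h : ∀ l : LTSeries (PrimeSpectrum.zeroLocus (R := R) J), l.length + r ≤ N := by
    intro l
    let p : PrimeSpectrum R := l.head.1
    haveI : Nonempty (PrimeSpectrum R) := ⟨p⟩
    have h1 : (r : ℕ∞) ≤ Order.height p :=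
      (hJ p.asIdeal p.isPrime l.head.2).trans (PrimeSpectrum.height_eq_orderHeight p).le
    let l' : LTSeries (PrimeSpectrum R) := l.map Subtype.val (fun _ _ h => h)
    have h2 : (l.length : ℕ∞) ≤ Order.coheight p :=
      Order.length_le_coheight (p := l') (le_of_eq (LTSeries.head_map l Subtype.val _).symm)
    have h3 : ((r : ℕ∞) + (l.length : ℕ∞) : WithBot ℕ∞) ≤ ringKrullDim R := by
      rw [ringKrullDim, Order.krullDim_eq_iSup_height_add_coheight_of_nonempty, ← WithBot.coe_add]
      exact WithBot.coe_le_coe.2
        ((add_le_add h1 h2).trans (le_iSup (fun a : PrimeSpectrum R => Order.height a + Order.coheight a) p))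
    rw [hN] at h3
    have : r + l.length ≤ N := by exact_mod_cast h3
    omega
  rw [ringKrullDim_quotient, hN]
  by_cases hne : Nonempty (PrimeSpectrum.zeroLocus (R := R) J)
  · have hr : r ≤ N := (Nat.le_add_left _ _).trans (h (RelSeries.singleton _ hne.some))
    have hub : Order.krullDim (PrimeSpectrum.zeroLocus (R := R) J) ≤ ((N - r : ℕ) : WithBot ℕ∞) := by
      rw [Order.krullDim]
      exact iSup_le fun l => by exact_mod_cast (show l.length ≤ N - r by have := h l; omega)
    refine (add_le_add hub le_rfl).trans ?_
    exact_mod_cast (show N - r + r ≤ N by omega)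
  · haveI : IsEmpty (PrimeSpectrum.zeroLocus (R := R) J) := not_nonempty_iff.1 hne
    rw [Order.krullDim_eq_bot, WithBot.bot_add]
    exact bot_le

/-- The ideal of the origin. -/
abbrev origin : Ideal (MvPolynomial (Fin (n + 1)) k) := RingHom.ker constantCoeff

instance : (origin (k := k) (n := n)).IsMaximal :=
  RingHom.ker_isMaximal_of_surjective _ fun c => ⟨C c, constantCoeff_C _ c⟩

theorem form_mem_origin (ha : ∀ j, 1 ≤ a j) (j : Fin r) : (G j).1 ∈ origin (k := k) (n := n) := by
  have h : (G j).1.IsHomogeneous (a j) := (mem_homogeneousSubmodule _ _).1 (G j).2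
  refine h.coeff_eq_zero (d := 0) ?_
  simp
  exact fun e => by have := ha j; omega

/-- Clearing a unit at the origin. -/
theorem mem_of_smul_mem {I : Ideal (MvPolynomial (Fin (n + 1)) k)}
    (hI : I.IsHomogeneous (CohB1.polyGrading n k)) {s f : MvPolynomial (Fin (n + 1)) k}
    (hs : constantCoeff s ≠ 0) (h : s * f ∈ I) : f ∈ I := by
  classical
  have hmem : ∀ d, homogeneousComponent d f ∈ I := by
    intro d
    induction d using Nat.strong_induction_on with | _ d ih => ?_
    have hlow : s * (∑ i ∈ Finset.range d, homogeneousComponent i f) ∈ I :=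
      I.mul_mem_left _ (I.sum_mem fun i hi => ih i (Finset.mem_range.1 hi))
    set g := f - ∑ i ∈ Finset.range d, homogeneousComponent i f with hg
    have hsg : s * g ∈ I := by
      rw [hg, mul_sub]
      exact I.sub_mem h hlow
    have hcomp : homogeneousComponent d (s * g) ∈ I := homogeneousComponent_mem_of_mem hI hsg d
    have hcc : ∀ i j, homogeneousComponent i (homogeneousComponent j f) = if i = j then homogeneousComponent j f else 0 :=
      fun i j => homogeneousComponent_of_mem (homogeneousComponent_mem j f)
    have hgd : ∀ i, i < d → homogeneousComponent i g = 0 := fun i hi => by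
      rw [hg, map_sub, map_sum]
      simp only [hcc, Finset.sum_ite_eq, Finset.mem_range, hi, if_true, sub_self]
    have hgd' : homogeneousComponent d g = homogeneousComponent d f := by
      rw [hg, map_sub, map_sum]
      simp [hcc]
    have key : homogeneousComponent d (s * g) = C (constantCoeff s) * homogeneousComponent d f := by
      rw [← hgd']
      ext v
      rw [coeff_homogeneousComponent, coeff_C_mul, coeff_homogeneousComponent]
      split
      · rename_i hv
        rw [coeff_mul, Finset.sum_eq_single (0, v)]
        · rfl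
        · rintro ⟨p, q⟩ hpq hne
          rw [Finset.HasAntidiagonal.mem_antidiagonal] at hpq
          rcases lt_or_ge q.degree d with hq | hq
          · have := congrArg (coeff q) (hgd _ hq)
            rw [coeff_homogeneousComponent, if_pos rfl, coeff_zero] at this
            rw [this, mul_zero]
          · exfalso
            simp only at hpq
            have hp : p.degree = 0 := by
              have : p.degree + q.degree = d := by rw [← hv, ← hpq]; simp
              omega
            rw [Finsupp.degree_eq_zero_iff] at hp
            subst hp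
            rw [zero_add] at hpq
            exact hne (by rw [hpq])
        · intro hh
          exact absurd (Finset.HasAntidiagonal.mem_antidiagonal.2 (zero_add v)) hh
      · rw [mul_zero]
    have h2 := I.mul_mem_left (C (constantCoeff s)⁻¹) (key ▸ hcomp)
    rwa [← mul_assoc, ← C_mul, inv_mul_cancel₀ hs, C_1, one_mul] at h2
  rw [← sum_homogeneousComponent f]
  exact I.sum_mem fun d _ => hmem d

/-- Forms cutting out primes of height at least their number are a regular sequence. -/
theorem ciReg_of_height (ha : ∀ j, 1 ≤ a j)
    (h : ∀ P : Ideal (MvPolynomial (Fin (n + 1)) k), P.IsPrime → P.IsHomogeneous (CohB1.polyGrading n k) →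
      spanAll G ≤ P → (r : ℕ∞) ≤ P.height) : CIReg G := by
  let R := MvPolynomial (Fin (n + 1)) k
  let L := Localization.AtPrime (origin (k := k) (n := n))
  haveI : IsRegularLocalRing L := inferInstance
  let φ : R →+* L := algebraMap R L
  let g : Fin r → L := fun j => φ (G j).1
  have hm : ∀ i, g i ∈ IsLocalRing.maximalIdeal L := fun i =>
    (IsLocalization.AtPrime.to_map_mem_maximal_iff L (origin (k := k) (n := n)) _).2 (form_mem_origin G ha i)
  have hsp : Ideal.span (Set.range g) = (spanAll G).map φ := by
    rw [Ideal.map_span, ← Set.range_comp]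
    rfl
  have hht : ∀ q : Ideal L, q.IsPrime → Ideal.span (Set.range g) ≤ q → (r : ℕ∞) ≤ q.height := by
    intro q hq hle
    rw [hsp, Ideal.map_le_iff_le_comap] at hle
    haveI := hq
    rw [← IsLocalization.height_comap (origin (k := k) (n := n)).primeCompl]
    let p := q.comap φ
    have hcore : spanAll G ≤ (p.homogeneousCore (CohB1.polyGrading n k)).toIdeal := by
      rw [Ideal.span_le]
      rintro _ ⟨i, rfl⟩
      exact Ideal.mem_homogeneousCore_of_homogeneous_of_mem ⟨a i, (G i).2⟩ (hle (Ideal.subset_span ⟨i, rfl⟩))
    exact (h _ (Ideal.IsPrime.homogeneousCore inferInstance) (HomogeneousIdeal.isHomogeneous _) hcore).trans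
      (Ideal.height_mono (Ideal.toIdeal_homogeneousCore_le _ _))
  have hreg : RingTheory.Sequence.IsWeaklyRegular L (List.ofFn g) :=
    (RelGCI94.isWeaklyRegular_iff_dim g hm).2
      (dim_quotient_add_le _ r _ IsRegularLocalRing.spanFinrank_maximalIdeal.symm hht)
  intro j f hf
  have hlen : j.1 < (List.ofFn g).length := by simpa using j.2
  have hreg' := hreg.regular_mod_prev j.1 hlen
  have hI : Ideal.ofList ((List.ofFn g).take j.1) = (spanLt G j).map φ := by
    rw [Ideal.map_span, ← Set.image_comp, Ideal.ofList]
    congr 1
    ext x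
    simp only [Set.mem_ofPred_eq, List.mem_take_iff_getElem, List.getElem_ofFn, Set.mem_image, Set.mem_Iio]
    constructor
    · rintro ⟨i, hi, rfl⟩
      exact ⟨⟨i, by have := j.2; omega⟩, by exact Fin.mk_lt_of_lt_val (by omega), rfl⟩
    · rintro ⟨i, hi, rfl⟩
      exact ⟨i.1, by simp only [List.length_ofFn]; omega, rfl⟩
  have hmem : φ f ∈ Ideal.ofList ((List.ofFn g).take j.1) := by
    have hzero : (Submodule.Quotient.mk (φ f) :
        L ⧸ (Ideal.ofList ((List.ofFn g).take j.1) • (⊤ : Submodule L L))) = 0 := by
      refine hreg' ?_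
      simp only [List.getElem_ofFn, Fin.eta]
      rw [smul_zero, ← Submodule.Quotient.mk_smul, Submodule.Quotient.mk_eq_zero, smul_eq_mul, smul_eq_mul,
        Ideal.mul_top, hI, mul_comm, ← map_mul]
      exact Ideal.mem_map_of_mem _ hf
    rwa [Submodule.Quotient.mk_eq_zero, smul_eq_mul, Ideal.mul_top] at hzero
  rw [hI, IsLocalization.algebraMap_mem_map_algebraMap_iff (origin (k := k) (n := n)).primeCompl] at hmem
  obtain ⟨s, hs, hsf⟩ := hmem
  exact mem_of_smul_mem (isHomogeneous_span_image G _) (show constantCoeff s ≠ 0 from hs) hsf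

end Groth.Agent.CI16
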