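import Groth.Agent.Var76.RegMaps
import Groth.Agent.Var76.MumLevel
import Groth.Agent.Crv77.Degree

/-! Dimensions of the cohomology of the twisting sheaves of projective space, in all degrees. -/

universe u

open CategoryTheory CategoryTheory.Limits AlgebraicGeometry Opposite

noncomputable section

set_option maxSynthPendingDepth 6
set_option backward.isDefEq.respectTransparency false

namespace Groth.Agent.CI16

open Var76 Var76.Reg Crv77

variable {k : Type u} [Field k] {N : ℕ}

theorem toNat_lt_of_neg (hN : 1 ≤ N) {j : ℤ} (hj : j < N) : j.toNat < N := by omega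

/-- `h⁰(O(m))`, for every integer `m`. -/
theorem finrank_hh_zero (hN : 1 ≤ N) (m : ℤ) :
    Module.finrank k (Coh.HH (CohB1.ProjSpace N k) (Twist.twistProjSpace N k m) 0) =
      (m + N).toNat.choose N := by
  rcases le_or_gt 0 m with h | h
  · lift m to ℕ using h
    rw [finrank_hh_twist]
    congr 1
  · have := Pn71.subsingleton_hh N k m 0 (by omega) (by omega)
    rw [Module.finrank_zero_of_subsingleton, Nat.choose_eq_zero_of_lt]
    omega

/-- `h^N(O(m))`, for every integer `m`. -/
theorem finrank_hh_top (hN : 1 ≤ N) (m : ℤ) :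
    Module.finrank k (Coh.HH (CohB1.ProjSpace N k) (Twist.twistProjSpace N k m) N) =
      (-m - 1).toNat.choose N := by
  classical
  rcases lt_or_ge (-(N : ℤ) - 1) m with h | h
  · have := Pn71.subsingleton_hh N k m N (by omega) (by omega)
    rw [Module.finrank_zero_of_subsingleton, Nat.choose_eq_zero_of_lt]
    omega
  · obtain ⟨j, rfl⟩ : ∃ j : ℕ, m = -((j : ℤ) + Fintype.card (Fin (N + 1))) :=
      ⟨(-m - N - 1).toNat, by simp only [Fintype.card_fin]; omega⟩
    rw [(Pn71.hhTopEquiv N k (-((j : ℤ) + Fintype.card (Fin (N + 1)))) (by omega)).finrank_eq,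
      (Finsupp.supportedEquivFinsupp (M := k) (R := k) _).finrank_eq]
    let e : Pn71.negCell (ι := Fin (N + 1)) (-((j : ℤ) + Fintype.card (Fin (N + 1)))) ≃
        (Finset.univ : Finset (Fin (N + 1))).finsuppAntidiag j :=
      (Pn71.negCellEquiv j).trans (Equiv.subtypeEquivRight fun v => by simp [Finsupp.degree_eq_sum])
    have := Fintype.ofEquiv _ e.symm
    rw [Module.finrank_finsupp_self, Fintype.card_congr e, Fintype.card_coe,
      Finset.card_finsuppAntidiag_nat_eq_choose, Finset.card_univ, Fintype.card_fin,
      show N + 1 + j - 1 = j + N by omega, Nat.choose_symm_add]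
    congr 1
    omega

theorem finite_hh_twist (m : ℤ) (q : ℕ) :
    Module.Finite k (Coh.HH (CohB1.ProjSpace N k) (Twist.twistProjSpace N k m) q) := by
  have h := finite_hh_tw (n := N) (k := k) (Coh.structureModule (CohB1.ProjSpace N k)) (Crv77.isCoh_structureModule) m q
  exact Module.Finite.equiv (hEquiv k (EGA73.tensUnitLeft _) q)

end Groth.Agent.CI16
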