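import Groth.Agent.CI16.Cut
import Groth.Agent.CI16.Height
import Groth.Agent.Curves2.H1Zero.Basic
import Groth.Agent.ValVan29.Vanish

/-! Cohomology of the twists of a complete intersection. -/

set_option autoImplicit false

universe u

open CategoryTheory CategoryTheory.Limits AlgebraicGeometry Opposite TopologicalSpace

noncomputable section

set_option maxSynthPendingDepth 6
set_option backward.isDefEq.respectTransparency false
set_option linter.style.haveILetI false
set_option maxHeartbeats 1000000

namespace Groth.Agent.CI16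

open Var76 Var76.Reg Crv77 RB70.RegSect

variable {k : Type u} [Field k] {n : ℕ}

theorem ciIdeal_fin_zero {a : Fin 0 → ℕ} (G : ∀ j, LefPen.Form n k (a j)) : LefPen.ciIdeal G = ⊥ :=
  iSup_of_empty _

/-- Vanishing in the middle degrees and surjectivity on global sections. -/
theorem vanish_and_surjective : ∀ {r : ℕ} {a : Fin r → ℕ} (G : ∀ j, LefPen.Form n k (a j)), CIReg G →
    (∀ (i : ℤ) (p : ℕ), 0 < p → p + r < n →
      Subsingleton (Coh.HH (CohB1.ProjSpace n k) (Qu (LefPen.ciIdeal G) (Twist.twistProjSpace n k i)) p)) ∧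
    (r < n → ∀ i : ℤ,
      Function.Surjective ((qu (LefPen.ciIdeal G) (Twist.twistProjSpace n k i)).app ⊤)) := by
  intro r
  induction r with
  | zero =>
    intro a G _
    refine ⟨fun i p hp hpn => ?_, fun _ i => ?_⟩
    · haveI := Pn71.isQCoh_twistProjSpace n k i
      rw [ciIdeal_fin_zero]
      haveI : IsIso (qu (⊥ : (CohB1.ProjSpace n k).IdealSheafData) (Twist.twistProjSpace n k i)) :=
        isIso_qu_bot _
      exact ValVan29.subsingleton_hh_of_iso (asIso (qu ⊥ (Twist.twistProjSpace n k i))) p
        (Pn71.subsingleton_hh n k i p (by omega) (by omega))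
    · haveI := Pn71.isQCoh_twistProjSpace n k i
      rw [ciIdeal_fin_zero]
      haveI : IsIso (qu (⊥ : (CohB1.ProjSpace n k).IdealSheafData) (Twist.twistProjSpace n k i)) :=
        isIso_qu_bot _
      intro y
      refine ⟨(inv (qu (⊥ : (CohB1.ProjSpace n k).IdealSheafData) (Twist.twistProjSpace n k i))).app ⊤ y, ?_⟩
      exact congr(Scheme.Modules.Hom.app $(IsIso.inv_hom_id
        (qu (⊥ : (CohB1.ProjSpace n k).IdealSheafData) (Twist.twistProjSpace n k i))) ⊤ y)
  | succ r ih =>
    intro a G hG
    obtain ⟨hv, hs⟩ := ih (fun j : Fin r => G j.castSucc) hG.castSucc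
    refine ⟨fun c p hp hpn => ?_, fun hr c => ?_⟩
    · obtain ⟨f, g, w, hS, hg⟩ := exists_cutSeq hG (c - a (Fin.last r)) c (by ring)
      exact ValVan29.subsingleton_hh_X₃ hS p (hv c p hp (by omega))
        (hv (c - a (Fin.last r)) (p + 1) (by omega) (by omega))
    · obtain ⟨f, g, w, hS, hg⟩ := exists_cutSeq hG (c - a (Fin.last r)) c (by ring)
      have h1 : Function.Surjective (g.app ⊤) := Curves2.H1Zero.surjective_app_top_of_h1 k hS
        (hv (c - a (Fin.last r)) 1 (by omega) (by omega))
      intro z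
      obtain ⟨y, rfl⟩ := h1 z
      obtain ⟨x, rfl⟩ := hs (by omega) c y
      exact ⟨x, congr(Scheme.Modules.Hom.app $hg.symm ⊤ x)⟩

end Groth.Agent.CI16
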